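import Groth.Agent.Lib.DeRhamAlg.Homotopy
import Mathlib.LinearAlgebra.ExteriorPower.Basis
import Mathlib.RingTheory.Kaehler.Polynomial
import Mathlib.Algebra.MvPolynomial.PDeriv

/-!
# The algebraic Poincaré lemma for polynomial rings in characteristic zero
-/

set_option autoImplicit false
set_option linter.style.haveILetI false
universe u

open exteriorPower MvPolynomial

namespace Groth.Agent.H95.AffDR.Poincare

open Groth.Agent.Lib.DeRhamAlg.Homotopy Groth.Agent.Lib.DeRhamAlg.Basic

variable (k : Type u) [Field k] [CharZero k] (N : ℕ)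

local notation "P" => MvPolynomial (Fin N) k
local notation "δ" => KaehlerDifferential.D k (MvPolynomial (Fin N) k)

/-- Contraction with the Euler vector field. -/
noncomputable def euler : Ω[P⁄k] →ₗ[P] P :=
  (KaehlerDifferential.mvPolynomialBasis k (Fin N)).constr P (fun i => (X i : P))

omit [CharZero k] in
lemma euler_D_X (i : Fin N) : euler k N (δ (X i)) = X i := by
  rw [← KaehlerDifferential.mvPolynomialBasis_apply]
  exact (KaehlerDifferential.mvPolynomialBasis k (Fin N)).constr_basis _ _ i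

omit [CharZero k] in
lemma coeff_euler_D (f : P) (m : Fin N →₀ ℕ) :
    coeff m (euler k N (δ f)) = ((∑ i, m i : ℕ) : k) * coeff m f := by
  classical
  rw [euler, Module.Basis.constr_apply_fintype, coeff_sum]
  simp only [smul_eq_mul, Module.Basis.equivFun_apply,
    KaehlerDifferential.mvPolynomialBasis_repr_apply]
  push_cast
  rw [Finset.sum_mul]
  refine Finset.sum_congr rfl fun i _ => ?_
  rw [coeff_mul_X']
  by_cases hi : i ∈ m.support
  · rw [if_pos hi, coeff_pderiv]
    have hle : Finsupp.single i 1 ≤ m := by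
      intro j
      rw [Finsupp.single_apply]
      split_ifs with h
      · subst h; simp only [Finsupp.mem_support_iff] at hi; omega
      · simp
    rw [tsub_add_cancel_of_le hle, Finsupp.tsub_apply, Finsupp.single_eq_same]
    have h1 : 1 ≤ m i := by simp only [Finsupp.mem_support_iff] at hi; omega
    rw [Nat.cast_sub h1]
    simp [mul_comm]
  · rw [if_neg hi]
    simp only [Finsupp.mem_support_iff, not_not] at hi
    simp [hi]

/-- Closed forms of positive degree are exact. -/
theorem cocycles_le {d : ∀ p : ℕ, ↥(⋀[P]^p (Ω[P⁄k])) →ₗ[k] ↥(⋀[P]^(p + 1) (Ω[P⁄k]))}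
    (hd : DeRham.IsDiff (R := k) (A := P) (M := Ω[P⁄k]) δ d) (p : ℕ) : DeRham.cocycles (R := k) (A := P) (M := Ω[P⁄k]) d (p + 1) ≤
    DeRham.coboundaries (R := k) (A := P) (M := Ω[P⁄k]) d (p + 1) := by
  classical
  have hgen := span_range_D_eq_top k P
  let φ := euler k N
  let B : ∀ q, Module.Basis (Set.powersetCard (Fin N) (q + 1)) P ↥(⋀[P]^(q + 1) (Ω[P⁄k])) :=
    fun q => (KaehlerDifferential.mvPolynomialBasis k (Fin N)).exteriorPower (q + 1)
  let L := fun q => lie d φ q
  let T : ∀ _q : ℕ, P → P := fun q f => φ (δ f) + ((q : P) + 1) * f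
  have hT : ∀ (q : ℕ) (f : P) (m : Fin N →₀ ℕ), coeff m (T q f) =
      (((∑ i, m i) + (q + 1) : ℕ) : k) * coeff m f := by
    intro q f m
    simp only [T, φ, coeff_add, coeff_euler_D]
    rw [show ((q : P) + 1) = C ((q : k) + 1) by simp, coeff_C_mul]
    push_cast; ring
  have hne : ∀ (q : ℕ) (m : Fin N →₀ ℕ), (((∑ i, m i) + (q + 1) : ℕ) : k) ≠ 0 := fun q m => by
    simp only [ne_eq, Nat.cast_eq_zero]; omega
  have hLB : ∀ q (f : P) s, L q (f • B q s) = T q f • B q s := by
    intro q f s
    have e : B q s = DeRham.gen δ (q + 1) 1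
        (fun j => X (Set.powersetCard.ofFinEmbEquiv.symm s j)) := by
      rw [gen_one]
      simp only [B, exteriorPower.basis_apply]
      apply Subtype.ext
      simp [exteriorPower.ιMulti_family_apply_coe, exteriorPower.ιMulti_apply_coe,
        ExteriorAlgebra.ιMulti_family, Function.comp_def,
        KaehlerDifferential.mvPolynomialBasis_apply]
    simp only [L, e]
    rw [lie_smul φ hd.1 hgen, lie_gen_one φ hd.1 hgen q _ (fun i => euler_D_X k N _), smul_smul,
      ← add_smul]
    simp only [T]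
    rw [mul_comm f]
  have hLsum : ∀ q (c : Set.powersetCard (Fin N) (q + 1) → P),
      L q (∑ s, c s • B q s) = ∑ s, T q (c s) • B q s := fun q c => by
    rw [map_sum]; exact Finset.sum_congr rfl fun s _ => hLB q (c s) s
  have hinj : ∀ q z, L q z = 0 → z = 0 := by
    intro q z hz
    rw [← (B q).sum_repr z, hLsum] at hz
    have h0 := Fintype.linearIndependent_iff.mp (B q).linearIndependent _ hz
    rw [← (B q).sum_repr z]
    refine Finset.sum_eq_zero fun s _ => ?_
    have : (B q).repr z s = 0 := by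
      ext m
      have := congrArg (coeff m) (h0 s)
      rw [hT, coeff_zero] at this
      simpa using (mul_eq_zero.mp this).resolve_left (hne q m)
    rw [this, zero_smul]
  have hsurj : ∀ q z, ∃ w, L q w = z := by
    intro q z
    refine ⟨∑ s, (∑ m ∈ ((B q).repr z s).support, monomial m
      ((((∑ i, m i) + (q + 1) : ℕ) : k)⁻¹ * coeff m ((B q).repr z s))) • B q s, ?_⟩
    rw [hLsum]
    conv_rhs => rw [← (B q).sum_repr z]
    refine Finset.sum_congr rfl fun s _ => ?_
    congr 1
    ext m
    rw [hT, coeff_sum, Finset.sum_eq_single m (fun b _ hb => by rw [coeff_monomial, if_neg hb])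
      (fun hm => by rw [coeff_monomial, if_pos rfl, notMem_support_iff.mp hm, mul_zero]),
      coeff_monomial, if_pos rfl]
    exact mul_inv_cancel_left₀ (hne q m) _
  intro y hy
  obtain ⟨w, rfl⟩ := hsurj p y
  have hdw : d (p + 1) w = 0 := by
    apply hinj
    rw [← d_lie φ hd]
    exact hy
  show L p w ∈ LinearMap.range (d p)
  refine ⟨contract φ p w, ?_⟩
  simp [L, lie_apply, hdw]

/-- The closed functions are the constants. -/
theorem mem_cocycles_zero {d : ∀ p : ℕ, ↥(⋀[P]^p (Ω[P⁄k])) →ₗ[k] ↥(⋀[P]^(p + 1) (Ω[P⁄k]))}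
    (hd : DeRham.IsDiff (R := k) (A := P) (M := Ω[P⁄k]) δ d)
    (x : ↥(⋀[P]^0 (Ω[P⁄k]))) :
    d 0 x = 0 ↔ ∃ c : k, (C c : P) • ιMulti P 0 (![] : Fin 0 → Ω[P⁄k]) = x := by
  classical
  have hgen := span_range_D_eq_top k P
  have h0 : ∀ a : P, a • ιMulti P 0 (![] : Fin 0 → Ω[P⁄k]) = DeRham.gen δ 0 a ![] := fun a => by
    rw [DeRham.gen]
    congr 2
    exact Subsingleton.elim _ _
  obtain ⟨a, rfl⟩ : ∃ a : P, a • ιMulti P 0 (![] : Fin 0 → Ω[P⁄k]) = x := ⟨zeroEquiv P _ x, by
    apply (zeroEquiv P (Ω[P⁄k])).injective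
    rw [map_smul, zeroEquiv_ιMulti]
    simp⟩
  constructor
  · intro h
    have h1 : euler k N (δ a) = 0 := by
      have h2 := congrArg (fun z => zeroEquiv P (Ω[P⁄k]) (contract (euler k N) 0 z)) h
      simp only [h0, map_zero] at h2
      rw [d_gen hd.1, ← wedge_gen, gen_one, contract_wedge_zero, map_smul, zeroEquiv_ιMulti] at h2
      simpa using h2
    refine ⟨coeff 0 a, ?_⟩
    congr 1
    ext m
    rw [coeff_C]
    split_ifs with hm
    · rw [← hm]
    · have := congrArg (coeff m) h1
      rw [coeff_euler_D, coeff_zero] at this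
      refine ((mul_eq_zero.mp this).resolve_left ?_).symm
      rw [Nat.cast_eq_zero, Finset.sum_eq_zero_iff]
      intro hall
      exact hm (Finsupp.ext fun i => (hall i (Finset.mem_univ i)).symm)
  · rintro ⟨c, hc⟩
    have ha : a = C c := by
      simpa [zeroEquiv_ιMulti] using (congrArg (zeroEquiv P (Ω[P⁄k])) hc).symm
    subst ha
    rw [h0, hd.1]
    refine (ιMulti P 1).map_coord_zero 0 ?_
    simp only [Fin.cons_zero]
    exact (δ).map_algebraMap c

end Groth.Agent.H95.AffDR.Poincare
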