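import Groth.Agent.H95.AffDR.Main
import Groth.Agent.H95.AffDR.Poincare

/-!
# de Rham cohomology of affine space in characteristic zero
-/

set_option autoImplicit false
set_option linter.style.haveILetI false
universe u
open CategoryTheory CategoryTheory.Limits AlgebraicGeometry TopologicalSpace Opposite exteriorPower
open MvPolynomial (C)

namespace Groth.Agent.H95.AffDR.AffineSpace

theorem exists_isDiff' {R A : Type u} [CommRing R] [CommRing A] (g : R →+* A) (inst : Algebra R A)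
    (hinst : inst = g.toAlgebra) (D : DeRhamSh.OmegaCx (Spec.map (CommRingCat.ofHom g))) :
    ∃ d : ∀ p : ℕ, ↥(⋀[A]^p (Ω[A⁄R])) →ₗ[R] ↥(⋀[A]^(p + 1) (Ω[A⁄R])),
      DeRham.IsDiff (KaehlerDifferential.D R A) d := by
  subst hinst
  exact Main.exists_isDiff g D

variable (k : Type u) [Field k] [CharZero k] (N : ℕ)

local notation "P" => MvPolynomial (Fin N) k


theorem isZero_H_succ
    {d : ∀ p : ℕ, ↥(⋀[P]^p (Ω[P⁄k])) →ₗ[k] ↥(⋀[P]^(p + 1) (Ω[P⁄k]))}
    (hd : DeRham.IsDiff (R := k) (A := P) (M := Ω[P⁄k]) (KaehlerDifferential.D k P) d) (p : ℕ) :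
    IsZero (DeRham.H hd (p + 1)) := by
  refine (HomologicalComplex.exactAt_iff_isZero_homology _ _).1 ?_
  rw [HomologicalComplex.exactAt_iff' _ p (p + 1) (p + 1 + 1) (by simp) (by simp),
    ShortComplex.moduleCat_exact_iff]
  intro x hx
  change ((DeRham.cx hd).d (p + 1) (p + 1 + 1)).hom x = 0 at hx
  simp only [DeRham.cx, CochainComplex.of_d] at hx
  obtain ⟨w, hw⟩ := Poincare.cocycles_le k N hd p (show d (p + 1) x = 0 from hx)
  refine ⟨w, ?_⟩
  change ((DeRham.cx hd).d p (p + 1)).hom w = x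
  simp only [DeRham.cx, CochainComplex.of_d]
  exact hw

theorem nonempty_H_zero
    {d : ∀ p : ℕ, ↥(⋀[P]^p (Ω[P⁄k])) →ₗ[k] ↥(⋀[P]^(p + 1) (Ω[P⁄k]))}
    (hd : DeRham.IsDiff (R := k) (A := P) (M := Ω[P⁄k]) (KaehlerDifferential.D k P) d) :
    Nonempty ((DeRham.H hd 0 : ModuleCat.{u} k) ≃+ k) := by
  let K := DeRham.cx hd
  let e₁ : K.homology 0 ≅ K.cycles 0 := K.isoHomologyπ₀.symm
  let e₂ : K.cycles 0 ≅ ModuleCat.of k (LinearMap.ker (K.d 0 1).hom) :=
    (K.cyclesIsKernel 0 1 (by simp)).conePointUniqueUpToIso (ModuleCat.kernelIsLimit (K.d 0 1))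
  have hd01 : (K.d 0 1).hom = d 0 :=
    congrArg ModuleCat.Hom.hom
      (CochainComplex.of_d (fun p => ModuleCat.of k ↥(⋀[P]^p (Ω[P⁄k])))
        (fun p => ModuleCat.ofHom (d p)) 0)
  let c : k →+ LinearMap.ker (K.d 0 1).hom := AddMonoidHom.mk'
    (fun a => ⟨(C a : P) • ιMulti P 0 (![] : Fin 0 → Ω[P⁄k]), by
      show (K.d 0 1).hom _ = 0
      rw [hd01]
      exact (Poincare.mem_cocycles_zero k N hd _).2 ⟨a, rfl⟩⟩)
    fun a b => by
      apply Subtype.ext
      show (C (a + b) : P) • _ = _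
      exact (congrArg (fun z : P => z • ιMulti P 0 (![] : Fin 0 → Ω[P⁄k])) (map_add C a b)).trans
        (add_smul _ _ _)
  have hc : Function.Bijective c := by
    constructor
    · intro a b h
      have h' := congrArg (fun z : LinearMap.ker (K.d 0 1).hom => zeroEquiv P (Ω[P⁄k]) z.1) h
      simp only [c, AddMonoidHom.mk'_apply, map_smul, zeroEquiv_ιMulti] at h'
      exact MvPolynomial.C_injective (Fin N) k (by simpa using h')
    · intro z
      have hz : d 0 z.1 = 0 := by rw [← hd01]; exact z.2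
      obtain ⟨a, ha⟩ := (Poincare.mem_cocycles_zero k N hd z.1).1 hz
      exact ⟨a, Subtype.ext ha⟩
  exact ⟨(e₁ ≪≫ e₂).toLinearEquiv.toAddEquiv.trans (AddEquiv.ofBijective c hc).symm⟩

omit [CharZero k] in
theorem subsingleton_HdR_of_neg {X : Scheme.{u}} {S : Scheme.{u}} {f : X ⟶ S} {Ω' : X.Modules}
    {δ : OmegaSh.Der f Ω'} (D : DeRhamSh.Cx f Ω' δ)
    [HasDerivedCategory.{u} (Sheaf (Opens.grothendieckTopology X) AddCommGrpCat.{u})]
    (i : ℤ) (hi : i < 0) : Subsingleton (DeRhamSh.HdR D i) := by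
  haveI : D.KZ.IsStrictlyGE 0 := (CochainComplex.isStrictlyGE_iff _ _).2 fun j hj =>
    D.K.isZero_extend_X _ j fun p hp => by simp at hp; omega
  have h1 : (DerivedCategory.Q.obj D.KZ).IsGE 0 := inferInstance
  haveI h2 : DerivedCategory.TStructure.t.IsGE ((DerivedCategory.Q.obj D.KZ)⟦i⟧) (-i) :=
    haveI : DerivedCategory.TStructure.t.IsGE (DerivedCategory.Q.obj D.KZ) 0 := h1
    DerivedCategory.TStructure.t.isGE_shift _ 0 i (-i) (by omega)
  exact subsingleton_of_forall_eq 0 fun x =>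
    DerivedCategory.TStructure.t.zero x 0 (-i) (by omega)

end Groth.Agent.H95.AffDR.AffineSpace
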