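import Mathlib.Algebra.Homology.DerivedCategory.KInjective
import Mathlib.Algebra.Homology.HomotopyCategory.HomComplexSingle
import Mathlib.Algebra.Homology.HomotopyCategory.HomComplexCohomology
import Mathlib.Algebra.Homology.DerivedCategory.Ext.ExactSequences
import Mathlib.Algebra.Homology.DerivedCategory.Ext.EnoughInjectives
import Mathlib.Algebra.Homology.Factorizations.CM5a
import Mathlib.Algebra.Homology.HomotopyCategory.MappingCone
import Mathlib.Algebra.Homology.HomotopyCategory.Plus
import Mathlib.CategoryTheory.Preadditive.Yoneda.Limits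

/-!
# Hypercohomology of bounded below complexes of acyclic objects

For a bounded below complex `K` whose terms have no higher `Ext` from `A`, morphisms
`A ⟶ K[n]` in the derived category are the `n`-th cohomology of the complex `Hom(A, K)`.
-/

set_option autoImplicit false
set_option linter.style.haveILetI false
universe w w' v u

open CategoryTheory Category Limits Opposite CochainComplex

namespace Groth.Agent.H95.AffDR.Hyper

variable {C : Type u} [Category.{v} C] [Abelian C] (A : C)

/-- `Hom(A, -)` -/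
noncomputable abbrev homA : C ⥤ AddCommGrpCat.{v} := preadditiveCoyoneda.obj (op A)

/-- The complex `Hom(A, K)` -/
noncomputable abbrev homCx (K : CochainComplex C ℤ) : CochainComplex AddCommGrpCat.{v} ℤ :=
  ((homA A).mapHomologicalComplex (.up ℤ)).obj K

open HomComplex in
/-- The complex of morphisms out of a single object. -/
noncomputable def homCxIso (K : CochainComplex C ℤ) :
    homCx A K ≅ HomComplex ((singleFunctor C 0).obj A) K :=
  HomologicalComplex.Hom.isoOfComponents
    (fun n => AddEquiv.toAddCommGrpIso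
      (Cochain.fromSingleEquiv (X := A) (K := K) (zero_add n)).symm)
    (fun i j hij => by
      ext f
      exact Cochain.δ_fromSingleMk f (zero_add i) j j (zero_add j))

section

variable [HasExt.{w'} C]

/-- No higher `Ext` from `A`. -/
def Acyc (M : C) : Prop := ∀ q : ℕ, 1 ≤ q → Subsingleton (Abelian.Ext.{w'} A M q)

variable {A}

lemma acyc_of_isZero {M : C} (hM : IsZero M) : Acyc.{w'} A M := fun q _ => by
  refine subsingleton_of_forall_eq 0 fun x => ?_
  rw [← x.comp_mk₀_id, hM.eq_of_src (𝟙 M) 0, Abelian.Ext.mk₀_zero, Abelian.Ext.comp_zero]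

lemma acyc_of_injective (M : C) [Injective M] : Acyc.{w'} A M := fun q hq => by
  obtain ⟨q, rfl⟩ : ∃ r, q = r + 1 := ⟨q - 1, by omega⟩
  exact subsingleton_of_forall_eq 0 fun x => x.eq_zero_of_injective

lemma acyc_of_iso {M N : C} (e : M ≅ N) (h : Acyc.{w'} A M) : Acyc.{w'} A N := fun q hq => by
  haveI := h q hq
  refine subsingleton_of_forall_eq 0 fun x => ?_
  rw [← x.comp_mk₀_id, ← e.inv_hom_id, ← Abelian.Ext.mk₀_comp_mk₀,
    ← Abelian.Ext.comp_assoc_of_second_deg_zero,
    Subsingleton.elim (x.comp (Abelian.Ext.mk₀ e.inv) (add_zero q)) 0, Abelian.Ext.zero_comp]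

lemma acyc_biprod {M N : C} (h : Acyc.{w'} A M) (h' : Acyc.{w'} A N) : Acyc.{w'} A (M ⊞ N) :=
  fun q hq => by
    haveI := h q hq
    haveI := h' q hq
    refine subsingleton_of_forall_eq 0 fun x => ?_
    rw [← x.comp_mk₀_id, ← biprod.total, Abelian.Ext.mk₀_add, Abelian.Ext.comp_add,
      ← Abelian.Ext.mk₀_comp_mk₀, ← Abelian.Ext.mk₀_comp_mk₀,
      ← Abelian.Ext.comp_assoc_of_second_deg_zero, ← Abelian.Ext.comp_assoc_of_second_deg_zero,
      Subsingleton.elim (x.comp (Abelian.Ext.mk₀ biprod.fst) (add_zero q)) 0,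
      Subsingleton.elim (x.comp (Abelian.Ext.mk₀ biprod.snd) (add_zero q)) 0,
      Abelian.Ext.zero_comp, Abelian.Ext.zero_comp, add_zero]

lemma acyc_X₃ {S : ShortComplex C} (hS : S.ShortExact) (h₁ : Acyc.{w'} A S.X₁)
    (h₂ : Acyc.{w'} A S.X₂) : Acyc.{w'} A S.X₃ := fun q hq => by
  haveI := h₁ (q + 1) (by omega)
  haveI := h₂ q hq
  refine subsingleton_of_forall_eq 0 fun x => ?_
  obtain ⟨y, rfl⟩ := Abelian.Ext.covariant_sequence_exact₃ A hS x rfl (Subsingleton.elim _ _)
  rw [Subsingleton.elim y 0, Abelian.Ext.zero_comp]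

lemma epi_map_g {S : ShortComplex C} (hS : S.ShortExact) (h₁ : Acyc.{w'} A S.X₁) :
    Epi ((homA A).map S.g) := by
  rw [AddCommGrpCat.epi_iff_surjective]
  intro f
  haveI := h₁ 1 le_rfl
  obtain ⟨y, hy⟩ := Abelian.Ext.covariant_sequence_exact₃ A hS (Abelian.Ext.mk₀ f) rfl
    (Subsingleton.elim _ _)
  obtain ⟨g, rfl⟩ := (Abelian.Ext.mk₀_bijective A S.X₂).2 y
  rw [Abelian.Ext.mk₀_comp_mk₀] at hy
  exact ⟨g, (Abelian.Ext.mk₀_bijective A S.X₃).1 hy⟩

variable (A)

/-- Acyclic bounded below complexes of acyclic objects stay acyclic under `Hom(A, -)`. -/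
lemma exactAt_homCx_of_acyclic (N : CochainComplex C ℤ) (a : ℤ) [N.IsStrictlyGE a]
    (hN : N.Acyclic) (hX : ∀ k, Acyc.{w'} A (N.X k)) (k : ℤ) : (homCx A N).ExactAt k := by
  have hepi : ∀ i j : ℤ, i + 1 = j → Epi (N.toCycles i j) := fun i j h =>
    Preadditive.epi_of_isZero_cokernel' _ (N.homologyIsCokernel i j (by simp; lia))
      ((N.exactAt_iff_isZero_homology j).1 (hN j))
  let S : ∀ i : ℤ, ShortComplex C := fun i =>
    ShortComplex.mk (N.iCycles i) (N.toCycles i (i + 1))
      (by rw [← cancel_mono (N.iCycles (i + 1)), Category.assoc, HomologicalComplex.toCycles_i,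
        HomologicalComplex.iCycles_d, zero_comp])
  have hS : ∀ i, (S i).ShortExact := fun i => by
    refine ShortComplex.ShortExact.mk' ?_ (inferInstanceAs (Mono (N.iCycles i))) (hepi i (i + 1) rfl)
    let φ : S i ⟶ ShortComplex.mk (N.iCycles i) (N.d i (i + 1)) (N.iCycles_d i (i + 1)) :=
      { τ₁ := 𝟙 _
        τ₂ := 𝟙 _
        τ₃ := N.iCycles (i + 1)
        comm₁₂ := (id_comp _).trans (comp_id _).symm
        comm₂₃ := (id_comp _).trans (N.toCycles_i i (i + 1)).symm }
    exact (ShortComplex.exact_iff_of_epi_of_isIso_of_mono φ).2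
      (ShortComplex.exact_of_f_is_kernel _ (N.cyclesIsKernel i (i + 1) (by simp)))
  have hlow : ∀ j, j < a → Acyc.{w'} A (N.cycles j) := fun j hj =>
    acyc_of_isZero (IsZero.of_mono (N.iCycles _) (CochainComplex.isZero_of_isStrictlyGE N a _ hj))
  have hcyc : ∀ m : ℕ, Acyc.{w'} A (N.cycles (a - 1 + m)) := fun m => by
    induction m with
    | zero => exact hlow _ (by lia)
    | succ m ih =>
      obtain ⟨i, hi⟩ : ∃ i : ℤ, i = a - 1 + m := ⟨_, rfl⟩
      rw [← hi] at ih
      rw [show a - 1 + ((m + 1 : ℕ) : ℤ) = i + 1 by lia]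
      exact acyc_X₃ (hS i) ih (hX i)
  obtain ⟨i, rfl⟩ : ∃ i : ℤ, k = i + 1 := ⟨k - 1, by lia⟩
  have hi : Acyc.{w'} A (N.cycles i) := by
    by_cases hj : i < a
    · exact hlow i hj
    · rw [show i = a - 1 + ((i - a + 1).toNat : ℤ) by lia]
      exact hcyc _
  have he : Epi ((homA A).map (N.toCycles i (i + 1))) := epi_map_g (hS i) hi
  rw [HomologicalComplex.exactAt_iff' _ i (i + 1) (i + 2) (by simp) (by simp; lia)]
  let ψ : (homCx A N).sc' i (i + 1) (i + 2) ⟶
      ShortComplex.mk ((homA A).map (N.iCycles (i + 1))) ((homA A).map (N.d (i + 1) (i + 2)))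
        (by rw [← (homA A).map_comp, HomologicalComplex.iCycles_d, Functor.map_zero]) :=
    { τ₁ := (homA A).map (N.toCycles i (i + 1))
      τ₂ := 𝟙 _
      τ₃ := 𝟙 _
      comm₁₂ := (((homA A).map_comp _ _).symm.trans
        (congrArg (homA A).map (N.toCycles_i i (i + 1)))).trans (comp_id _).symm
      comm₂₃ := (id_comp _).trans (comp_id _).symm }
  haveI : Epi ψ.τ₁ := he
  haveI : IsIso ψ.τ₂ := inferInstanceAs (IsIso (𝟙 _))
  haveI : Mono ψ.τ₃ := inferInstanceAs (Mono (𝟙 _))
  exact (ShortComplex.exact_iff_of_epi_of_isIso_of_mono ψ).2 (ShortComplex.exact_of_f_is_kernel _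
    (KernelFork.mapIsLimit _ (N.cyclesIsKernel (i + 1) (i + 2) (by simp; lia)) (homA A)))

lemma quasiIso_iff_acyclic_mappingCone {B : Type*} [Category B] [Abelian B]
    {K L : CochainComplex B ℤ} (f : K ⟶ L) :
    QuasiIso f ↔ (CochainComplex.mappingCone f).Acyclic := by
  rw [← HomotopyCategory.quotient_obj_mem_subcategoryAcyclic_iff_acyclic,
    ← HomologicalComplex.mem_quasiIso_iff, ← HomotopyCategory.quotient_map_mem_quasiIso_iff,
    HomotopyCategory.quasiIso_eq_trW_subcategoryAcyclic]
  exact (HomotopyCategory.subcategoryAcyclic B).trW_iff_of_distinguished _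
    (HomotopyCategory.mappingCone_triangleh_distinguished f)

end

section

variable [HasDerivedCategory.{w} C]

/-- Morphisms into a shift of a K-injective complex. -/
theorem nonempty_homEquiv_of_isKInjective (L : CochainComplex C ℤ) [L.IsKInjective] (n : ℤ) :
    Nonempty (((DerivedCategory.singleFunctor C 0).obj A ⟶ (DerivedCategory.Q.obj L)⟦n⟧) ≃+
      ↑((homCx A L).homology n)) := by
  let e₁ : ↑((homCx A L).homology n) ≃+
      HomComplex.CohomologyClass ((singleFunctor C 0).obj A) L n :=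
    ((HomologicalComplex.homologyFunctor _ _ n).mapIso (homCxIso A L)).addCommGroupIsoToAddEquiv.trans
      (HomComplex.homologyAddEquiv _ _ _)
  let q := HomotopyCategory.quotient C (ComplexShape.up ℤ)
  let φ : (q.obj ((singleFunctor C 0).obj A) ⟶ q.obj (L⟦n⟧)) →+
      (DerivedCategory.Qh.obj (q.obj ((singleFunctor C 0).obj A)) ⟶
        DerivedCategory.Qh.obj (q.obj (L⟦n⟧))) := DerivedCategory.Qh.mapAddHom
  let e₂ := AddEquiv.ofBijective φ (CochainComplex.IsKInjective.Qh_map_bijective _ _)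
  let i₁ : DerivedCategory.Qh.obj (q.obj ((singleFunctor C 0).obj A)) ≅
      (DerivedCategory.singleFunctor C 0).obj A :=
    (DerivedCategory.quotientCompQhIso C).app _ ≪≫
      ((DerivedCategory.singleFunctorIsoCompQ C 0).app A).symm
  let i₂ : DerivedCategory.Qh.obj (q.obj (L⟦n⟧)) ≅ (DerivedCategory.Q.obj L)⟦n⟧ :=
    (DerivedCategory.quotientCompQhIso C).app _ ≪≫ (DerivedCategory.Q.commShiftIso n).app L
  let e₃ : (DerivedCategory.Qh.obj (q.obj ((singleFunctor C 0).obj A)) ⟶
      DerivedCategory.Qh.obj (q.obj (L⟦n⟧))) ≃+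
      ((DerivedCategory.singleFunctor C 0).obj A ⟶ (DerivedCategory.Q.obj L)⟦n⟧) :=
    { Iso.homCongr i₁ i₂ with
      map_add' := fun a b => by simp [Preadditive.comp_add, Preadditive.add_comp] }
  exact ⟨((e₁.trans HomComplex.CohomologyClass.homAddEquiv).trans (e₂.trans e₃)).symm⟩

/-- Morphisms into a shift of a bounded below complex of acyclic objects. -/
theorem nonempty_homEquiv_of_acyc [HasExt.{w'} C] [EnoughInjectives C]
    (K : CochainComplex C ℤ) [K.IsStrictlyGE 0] (hK : ∀ k, Acyc.{w'} A (K.X k)) (n : ℤ) :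
    Nonempty (((DerivedCategory.singleFunctor C 0).obj A ⟶ (DerivedCategory.Q.obj K)⟦n⟧) ≃+
      ↑((homCx A K).homology n)) := by
  obtain ⟨L, i, _, hL, _⟩ := CochainComplex.Plus.modelCategoryQuillen.exists_quasiIso_injective K 0
  haveI : L.IsKInjective := CochainComplex.isKInjective_of_injective L 0
  have hN := CochainComplex.isStrictlyGE_mappingCone i 0 0 (-1)
  have hT : QuasiIso (((homA A).mapHomologicalComplex (.up ℤ)).map i) := by
    refine (quasiIso_iff_acyclic_mappingCone _).2 fun k => ?_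
    refine HomologicalComplex.ExactAt.of_iso ?_
      (CochainComplex.mappingCone.mapHomologicalComplexIso i (homA A))
    exact exactAt_homCx_of_acyclic A _ (-1) ((quasiIso_iff_acyclic_mappingCone i).1 inferInstance)
      (fun j => acyc_of_iso (HomologicalComplex.homotopyCofiber.XIsoBiprod i j (j + 1) rfl).symm
        (acyc_biprod (hK (j + 1)) (have := hL j; acyc_of_injective (L.X j)))) k
  obtain ⟨e⟩ := nonempty_homEquiv_of_isKInjective A L n
  haveI : IsIso (DerivedCategory.Q.map i) := inferInstance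
  let j : (DerivedCategory.Q.obj K)⟦n⟧ ≅ (DerivedCategory.Q.obj L)⟦n⟧ :=
    (CategoryTheory.shiftFunctor _ n).mapIso (asIso (DerivedCategory.Q.map i))
  let e' : ((DerivedCategory.singleFunctor C 0).obj A ⟶ (DerivedCategory.Q.obj K)⟦n⟧) ≃+
      ((DerivedCategory.singleFunctor C 0).obj A ⟶ (DerivedCategory.Q.obj L)⟦n⟧) :=
    { Iso.homCongr (Iso.refl _) j with
      map_add' := fun a b => by simp [Preadditive.comp_add, Preadditive.add_comp] }
  exact ⟨(e'.trans e).trans (isoOfQuasiIsoAt
    (((homA A).mapHomologicalComplex (.up ℤ)).map i) n).symm.addCommGroupIsoToAddEquiv⟩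

end

end Groth.Agent.H95.AffDR.Hyper
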