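import Mathlib.Algebra.Homology.Embedding.ExtendHomology
import Mathlib.Algebra.Homology.Embedding.CochainComplex

/-!
# Mapping a complex extended by zero
-/

set_option autoImplicit false
set_option linter.style.haveILetI false
universe v v' u u'

open CategoryTheory Category Limits

namespace Groth.Agent.H95.AffDR.Sect

variable {C : Type u} [Category.{v} C] [Preadditive C] [HasZeroObject C]
  {D : Type u'} [Category.{v'} D] [Preadditive D] [HasZeroObject D]
  (T : C ⥤ D) [T.Additive] (K : CochainComplex C ℕ)

noncomputable def xIso : ∀ j : ℤ,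
    ((T.mapHomologicalComplex _).obj (K.extend ComplexShape.embeddingUpNat)).X j ≅
      (((T.mapHomologicalComplex _).obj K).extend ComplexShape.embeddingUpNat).X j
  | Int.ofNat p => T.mapIso (K.extendXIso ComplexShape.embeddingUpNat (i := p) rfl) ≪≫
      (((T.mapHomologicalComplex _).obj K).extendXIso ComplexShape.embeddingUpNat (i := p) rfl).symm
  | Int.negSucc p =>
      (T.map_isZero (K.isZero_extend_X ComplexShape.embeddingUpNat (Int.negSucc p)
        fun i h => by simp at h)).iso
        (((T.mapHomologicalComplex _).obj K).isZero_extend_X ComplexShape.embeddingUpNat (Int.negSucc p)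
          fun i h => by simp at h)

lemma key {a b a' b' : C} {x y : D} (e : a ≅ a') (e' : b ≅ b') (g : x ≅ T.obj a')
    (g' : y ≅ T.obj b') (d : a' ⟶ b') :
    (T.map e.hom ≫ g.inv) ≫ g.hom ≫ T.map d ≫ g'.inv =
      T.map (e.hom ≫ d ≫ e'.inv) ≫ T.map e'.hom ≫ g'.inv := by
  simp only [Functor.map_comp, assoc, Iso.inv_hom_id_assoc, Iso.map_inv_hom_id_assoc]

/-- `T (K extended by zero) = (T K) extended by zero`. -/
noncomputable def mapExtendIso :
    (T.mapHomologicalComplex _).obj (K.extend ComplexShape.embeddingUpNat) ≅
      ((T.mapHomologicalComplex _).obj K).extend ComplexShape.embeddingUpNat :=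
  HomologicalComplex.Hom.isoOfComponents (xIso T K) fun i j hij => by
    match i, j with
    | Int.negSucc p, _ =>
      exact (T.map_isZero (K.isZero_extend_X ComplexShape.embeddingUpNat (Int.negSucc p)
        fun i h => by simp at h)).eq_of_src _ _
    | Int.ofNat p, Int.negSucc q => simp at hij; omega
    | Int.ofNat p, Int.ofNat q =>
      change (T.map (K.extendXIso ComplexShape.embeddingUpNat (i := p) (i' := Int.ofNat p) rfl).hom ≫
          (((T.mapHomologicalComplex _).obj K).extendXIso ComplexShape.embeddingUpNat (i := p)
            (i' := Int.ofNat p) rfl).inv) ≫ _ =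
        T.map _ ≫ T.map (K.extendXIso ComplexShape.embeddingUpNat (i := q) (i' := Int.ofNat q) rfl).hom ≫
          (((T.mapHomologicalComplex _).obj K).extendXIso ComplexShape.embeddingUpNat (i := q)
            (i' := Int.ofNat q) rfl).inv
      rw [HomologicalComplex.extend_d_eq _ ComplexShape.embeddingUpNat (i := p) (j := q)
          (i' := Int.ofNat p) (j' := Int.ofNat q) rfl rfl,
        HomologicalComplex.extend_d_eq _ ComplexShape.embeddingUpNat (i := p) (j := q)
          (i' := Int.ofNat p) (j' := Int.ofNat q) rfl rfl]
      exact key T _ _ _ _ _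

/-- The cohomology of `T (K extended by zero)` in degree `n ≥ 0`. -/
noncomputable def homologyMapExtendIso [CategoryWithHomology D] (n : ℕ) :
    ((T.mapHomologicalComplex _).obj (K.extend ComplexShape.embeddingUpNat)).homology (n : ℤ) ≅
      ((T.mapHomologicalComplex _).obj K).homology n :=
  (HomologicalComplex.homologyFunctor _ _ (n : ℤ)).mapIso (mapExtendIso T K) ≪≫
    ((T.mapHomologicalComplex _).obj K).extendHomologyIso ComplexShape.embeddingUpNat
      (j := n) (j' := (n : ℤ)) rfl

end Groth.Agent.H95.AffDR.Sect
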