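import Groth.Prelude.Def_DeRham
import Groth.Prelude.Def_DeRham2
import Groth.Agent.H95.AffDR.Hyper
import Groth.Agent.H95.AffDR.Sect
import Groth.Agent.H95.ExtPowQCoh
import Groth.Agent.Lib.ZarCoh.Affine
import Groth.Agent.Lib.Kaehler.AffineUniv
import Groth.Agent.Lib.Kaehler.DOmega
import Groth.Agent.Lib.Kaehler.Finite

/-!
# de Rham cohomology of an affine scheme
-/

set_option autoImplicit false
set_option linter.style.haveILetI false
universe u
open CategoryTheory CategoryTheory.Limits AlgebraicGeometry TopologicalSpace Opposite exteriorPower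

namespace Groth.Agent.H95.AffDR.Main

open Groth.Agent.Lib.Kaehler.Basic Groth.Agent.Lib.Kaehler.AffineUniv

/-- Exterior powers of a semilinear equivalence. -/
theorem exists_semi {A B M N : Type u} [CommRing A] [CommRing B] (σ : A →+* B)
    (hσ : Function.Bijective σ) [AddCommGroup M] [Module A M] [AddCommGroup N] [Module B N]
    (E : M ≃+ N) (hE : ∀ a m, E (a • m) = σ a • E m) (p : ℕ) :
    ∃ Φ : ↥(⋀[A]^p M) ≃+ ↥(⋀[B]^p N), (∀ a z, Φ (a • z) = σ a • Φ z) ∧
      ∀ v, Φ (ιMulti A p v) = ιMulti B p (fun j => E (v j)) := by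
  letI := σ.toAlgebra
  haveI : IsLocalization.Away (1 : A) B :=
    IsLocalization.away_of_isUnit_of_bijective B isUnit_one hσ
  obtain ⟨Φ, h1, h2, h3, h4⟩ := ExtPowQCoh.exists_semimap (B := B) (1 : A) E.toAddMonoidHom hE
    (fun y => ⟨0, E.symm y, by simp⟩)
    (fun t ht => ⟨0, by simpa using E.injective (ht.trans (map_zero E).symm)⟩) p
  refine ⟨AddEquiv.ofBijective Φ ⟨?_, fun w => ?_⟩, h1, h2⟩
  · rw [injective_iff_map_eq_zero]
    intro z hz
    obtain ⟨m, hm⟩ := h4 z hz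
    simpa using hm
  · obtain ⟨m, z, hz⟩ := h3 w
    exact ⟨z, by simpa using hz⟩

/-- The global sections of the differentials of `Spec A → Spec R`. -/
theorem exists_globalEquiv (R A : Type u) [CommRing R] [CommRing A] (g : R →+* A) :
    letI := g.toAlgebra
    ∃ E : Ω[A⁄R] ≃+ Γ(Omega.sheaf (Spec.map (CommRingCat.ofHom g)), ⊤),
      (∀ (a : A) x, E (a • x) = ((Scheme.ΓSpecIso (CommRingCat.of A)).inv a) • E x) ∧
      ∀ b : A, E (KaehlerDifferential.D R A b) =
        (OmegaSh.dOmega (Spec.map (CommRingCat.ofHom g))).app ⊤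
          ((Scheme.ΓSpecIso (CommRingCat.of A)).inv b) := by
  letI := g.toAlgebra
  let φ := CommRingCat.ofHom g
  obtain ⟨d', hd', htop⟩ := exists_isUniversal_tilde φ
  obtain ⟨e, he⟩ := exists_iso_of_isUniversal hd'
    (Lib.Kaehler.DOmega.isUniversal_dOmega (f := Spec.map φ))
  let M := CommRingCat.KaehlerDifferential φ
  let e₁ : M ≅ gm (omegaAff φ) := tilde.isoTop M
  let e₂ : gm (omegaAff φ) ≅ gm (Omega.sheaf (Spec.map φ)) :=
    (moduleSpecΓFunctor (R := CommRingCat.of A)).mapIso e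
  let E := (e₁ ≪≫ e₂).toLinearEquiv
  refine ⟨E.toAddEquiv, fun a x => ?_, fun b => ?_⟩
  · refine (E.map_smul a x).trans ?_
    refine Eq.trans ?_ (top_smul (Omega.sheaf (Spec.map φ)) _ _).symm
    rw [Iso.inv_hom_id_apply]
    rfl
  · rw [← he]
    change e.hom.app ⊤ (tilde.toOpen M ⊤ (CommRingCat.KaehlerDifferential.d b)) = e.hom.app ⊤ _
    rw [← htop]
    rfl

variable {R A : Type u} [CommRing R] [CommRing A]

set_option maxHeartbeats 1600000 in
/-- Global sections of the terms of a de Rham complex are the forms, compatibly with the rule. -/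
theorem exists_xi (g : R →+* A) (D : DeRhamSh.OmegaCx (Spec.map (CommRingCat.ofHom g))) :
    letI := g.toAlgebra
    ∃ ξ : ∀ p, (CohCx.freeSheaf (Opens.grothendieckTopology ↥(Spec (CommRingCat.of A)))
        (⊤ : (Spec (CommRingCat.of A)).Opens) ⟶ D.K.X p) ≃+ ↥(⋀[A]^p (Ω[A⁄R])),
      ∀ p b₀ (b : Fin p → A),
        ξ (p + 1) ((ξ p).symm (DeRham.gen (KaehlerDifferential.D R A) p b₀ b) ≫ D.K.d p (p + 1)) =
          ιMulti A (p + 1) (Fin.cons (KaehlerDifferential.D R A b₀)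
            (fun i => KaehlerDifferential.D R A (b i))) := by
  letI := g.toAlgebra
  let X := Spec (CommRingCat.of A)
  let f := Spec.map (CommRingCat.ofHom g)
  let T : X.affineOpens := ⟨⊤, isAffineOpen_top X⟩
  let ι : A →+* Γ(X, ⊤) := (Scheme.ΓSpecIso (CommRingCat.of A)).inv.hom
  have hι : Function.Bijective ι :=
    (Scheme.ΓSpecIso (CommRingCat.of A)).symm.commRingCatIsoToRingEquiv.bijective
  obtain ⟨E, hE, hED⟩ := exists_globalEquiv R A g
  choose Φ hΦsmul hΦι using fun p => exists_semi ι hι E hE p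
  -- forms as sections of the complex
  let Z := CohCx.freeSheaf (Opens.grothendieckTopology X) (⊤ : X.Opens)
  let κ : ∀ p, (Z ⟶ D.K.X p) ≃+ (D.K.X p).obj.obj (op ⊤) := fun p =>
    { Lib.ZarCoh.Basic.homEquiv (X := X.toTopCat) ⊤ (D.K.X p) with
      map_add' := Lib.ZarCoh.Basic.homEquiv_add }
  let σ : ∀ p, (D.K.X p).obj.obj (op ⊤) ≃+ Γ(D.term p, ⊤) := fun p =>
    (((CategoryTheory.evaluation _ _).obj (op ⊤)).mapIso
      ((sheafToPresheaf _ _).mapIso (D.iso p))).addCommGroupIsoToAddEquiv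
  let ξ : ∀ p, (Z ⟶ D.K.X p) ≃+ ↥(⋀[A]^p (Ω[A⁄R])) := fun p =>
    ((κ p).trans (σ p)).trans ((D.loc p T).toAddEquiv.trans (Φ p).symm)
  have hgen : ∀ p b₀ (b : Fin p → A), (κ p) ((ξ p).symm (DeRham.gen (KaehlerDifferential.D R A) p b₀ b))
      = (D.iso p).inv.hom.app (op ⊤) ((D.loc p T).symm
          (ι b₀ • ιMulti _ p (fun i => (OmegaSh.dOmega f).app ⊤ (ι (b i))))) := by
    intro p b₀ b
    simp only [ξ, AddEquiv.symm_trans_apply, AddEquiv.symm_symm, AddEquiv.apply_symm_apply]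
    rw [DeRham.gen, hΦsmul, hΦι]
    simp only [hED]
    rfl
  refine ⟨ξ, fun p b₀ b => ?_⟩
  refine (AddEquiv.eq_symm_apply _).1 ?_
  refine (κ (p + 1)).injective ?_
  refine (Lib.ZarCoh.Basic.homEquiv_comp _ _).trans ?_
  change (D.K.d p (p + 1)).hom.app (op ⊤) (κ p _) = _
  rw [hgen]
  refine (D.rule p T (ι b₀) (fun i => ι (b i))).trans ?_
  simp only [ξ, AddEquiv.symm_trans_apply, AddEquiv.symm_symm, AddEquiv.apply_symm_apply]
  rw [hΦι]
  have : (fun j => E (Fin.cons (α := fun _ => Ω[A⁄R]) (KaehlerDifferential.D R A b₀)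
      (fun i => KaehlerDifferential.D R A (b i)) j)) =
      Fin.cons ((OmegaSh.dOmega f).app ⊤ (ι b₀)) (fun i => (OmegaSh.dOmega f).app ⊤ (ι (b i))) := by
    funext j
    refine Fin.cases ?_ (fun i => ?_) j
    · simpa using hED b₀
    · simpa using hED (b i)
  rw [this]
  rfl

/-- A de Rham complex gives the de Rham differential on forms. -/
theorem exists_isDiff (g : R →+* A) (D : DeRhamSh.OmegaCx (Spec.map (CommRingCat.ofHom g))) :
    letI := g.toAlgebra
    ∃ d : ∀ p : ℕ, ↥(⋀[A]^p (Ω[A⁄R])) →ₗ[R] ↥(⋀[A]^(p + 1) (Ω[A⁄R])),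
      DeRham.IsDiff (KaehlerDifferential.D R A) d := by
  letI := g.toAlgebra
  obtain ⟨ξ, hξ⟩ := exists_xi g D
  let d₀ : ∀ p : ℕ, ↥(⋀[A]^p (Ω[A⁄R])) →+ ↥(⋀[A]^(p + 1) (Ω[A⁄R])) := fun p =>
    AddMonoidHom.mk' (fun x => ξ (p + 1) ((ξ p).symm x ≫ D.K.d p (p + 1))) fun x y => by
      rw [map_add, Preadditive.add_comp, map_add]
  have hgen := Lib.DeRhamAlg.Basic.span_range_D_eq_top R A
  have hlin : ∀ p (r : R) x, d₀ p (r • x) = r • d₀ p x := by
    intro p r x
    induction x using Lib.DeRhamAlg.Basic.gen_induction (KaehlerDifferential.D R A) hgen with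
    | zero => simp
    | add x y hx hy => rw [smul_add, map_add, map_add, smul_add, hx, hy]
    | gen b₀ b =>
      have e : r • DeRham.gen (KaehlerDifferential.D R A) p b₀ b =
          DeRham.gen (KaehlerDifferential.D R A) p (r • b₀) b := (smul_assoc _ _ _).symm
      have hc : ∀ m : Ω[A⁄R], ιMulti A (p + 1) (Fin.cons m (fun i => KaehlerDifferential.D R A (b i)))
          = Lib.DeRhamAlg.Basic.wedge m p (ιMulti A p (fun i => KaehlerDifferential.D R A (b i))) := by
        intro m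
        simp [Lib.DeRhamAlg.Basic.wedge]
        rfl
      show ξ (p + 1) _ = r • ξ (p + 1) _
      rw [e, hξ, hξ, Derivation.map_smul, hc, hc, ← algebraMap_smul A r, ← algebraMap_smul A r,
        Lib.DeRhamAlg.Basic.wedge_smul]
  let d : ∀ p : ℕ, ↥(⋀[A]^p (Ω[A⁄R])) →ₗ[R] ↥(⋀[A]^(p + 1) (Ω[A⁄R])) := fun p =>
    { toFun := d₀ p, map_add' := map_add _, map_smul' := hlin p }
  have hr : DeRham.IsRule (KaehlerDifferential.D R A) d := fun p b₀ b => hξ p b₀ b
  exact ⟨d, hr, fun p => LinearMap.ext fun x => Lib.DeRhamAlg.Basic.d_d hr hgen p x⟩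

set_option maxHeartbeats 1600000 in
theorem main (g : R →+* A) (inst : Algebra R A) (hinst : inst = g.toAlgebra)
    (D : DeRhamSh.OmegaCx (Spec.map (CommRingCat.ofHom g)))
    [HasDerivedCategory.{u} (Sheaf (Opens.grothendieckTopology ↥(Spec (CommRingCat.of A))) AddCommGrpCat.{u})]
    (d : ∀ p : ℕ, ↥(⋀[A]^p (Ω[A⁄R])) →ₗ[R] ↥(⋀[A]^(p + 1) (Ω[A⁄R])))
    (hd : DeRham.IsDiff (KaehlerDifferential.D R A) d) (n : ℕ) :
    Nonempty (DeRhamSh.HdR D (n : ℤ) ≃+ ↑(DeRham.H hd n)) := by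
  subst hinst
  letI := g.toAlgebra
  let X := Spec (CommRingCat.of A)
  let f := Spec.map (CommRingCat.ofHom g)
  let Z := CohCx.freeSheaf (Opens.grothendieckTopology X) (⊤ : X.Opens)
  obtain ⟨ξ, hξ⟩ := exists_xi g D
  have hcomm : ∀ p x, (ξ p).symm x ≫ D.K.d p (p + 1) = (ξ (p + 1)).symm (d p x) := by
    intro p x
    induction x using Lib.DeRhamAlg.Basic.gen_induction (KaehlerDifferential.D R A)
      (Lib.DeRhamAlg.Basic.span_range_D_eq_top R A) with
    | zero => simp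
    | add x y hx hy => rw [map_add, map_add, map_add, Preadditive.add_comp, hx, hy]
    | gen b₀ b =>
      rw [hd.1 p b₀ b, ← hξ p b₀ b, AddEquiv.symm_apply_apply]
  -- the two complexes of forms
  let F := forget₂ (ModuleCat.{u} R) AddCommGrpCat.{u}
  let cI : ((Hyper.homA Z).mapHomologicalComplex (.up ℕ)).obj D.K ≅
      (F.mapHomologicalComplex (.up ℕ)).obj (DeRham.cx hd) :=
    HomologicalComplex.Hom.isoOfComponents (fun p => AddEquiv.toAddCommGrpIso (ξ p)) fun p q hpq => by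
      obtain rfl : p + 1 = q := hpq
      ext (y : Z ⟶ D.K.X p)
      change ((DeRham.cx hd).d p (p + 1)).hom (ξ p y) = ξ (p + 1) (y ≫ D.K.d p (p + 1))
      simp only [DeRham.cx, CochainComplex.of_d]
      refine (ξ (p + 1)).symm.injective ?_
      rw [AddEquiv.symm_apply_apply]
      exact (hcomm p (ξ p y)).symm.trans (by rw [AddEquiv.symm_apply_apply])
  let e₀ := (HomologicalComplex.homologyFunctor _ _ n).mapIso cI ≪≫
    ((DeRham.cx hd).sc n).mapHomologyIso F
  -- acyclicity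
  haveI : (Omega.sheaf f).IsQuasicoherent :=
    Lib.Kaehler.Finite.isQuasicoherent (Lib.Kaehler.DOmega.isUniversal_dOmega (f := f))
  haveI : ∀ p, (D.term p).IsQuasicoherent := fun p =>
    ExtPowQCoh.isQuasicoherent_of_loc p (D.loc p) (D.loc_res p)
  have hzero : ∀ j : ℤ, j < 0 → IsZero (D.KZ.X j) := fun j hj =>
    D.K.isZero_extend_X _ j fun p hp => by simp at hp; omega
  haveI : D.KZ.IsStrictlyGE 0 := (CochainComplex.isStrictlyGE_iff _ _).2 hzero
  have hac : ∀ j, Hyper.Acyc.{u} Z (D.KZ.X j) := fun j => by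
    by_cases h0 : j < 0
    · exact Hyper.acyc_of_isZero (hzero j h0)
    obtain ⟨p, rfl⟩ : ∃ p : ℕ, (p : ℤ) = j := ⟨j.toNat, by omega⟩
    refine Hyper.acyc_of_iso
      (D.K.extendXIso ComplexShape.embeddingUpNat (i := p) rfl ≪≫ D.iso p).symm fun q hq => ?_
    obtain ⟨q, rfl⟩ : ∃ r, q = r + 1 := ⟨q - 1, by omega⟩
    have h1 := Lib.ZarCoh.Affine.HH_subsingleton X (D.term p) q
    exact (Lib.ZarCoh.Compare.hTop (Coh.toAb (D.term p)) (q + 1)).symm.toEquiv.subsingleton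
  obtain ⟨e⟩ := Hyper.nonempty_homEquiv_of_acyc.{u, u} Z D.KZ hac (n : ℤ)
  exact ⟨e.trans (Sect.homologyMapExtendIso (Hyper.homA Z) D.K n ≪≫ e₀).addCommGroupIsoToAddEquiv⟩

end Groth.Agent.H95.AffDR.Main
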